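import Cfsg.Agent.Lib.Classical.A8Subgroups

/-!
Symmetric groups of degree six and seven against `A₈`.
-/

set_option autoImplicit false
set_option linter.style.haveILetI false

namespace CfsgLib.RankFourQuot

open Equiv MulAction
open scoped Pointwise

/-- The alternating group of degree eight. -/
abbrev A8 : Type := ↥(alternatingGroup (Fin 8))

theorem cube_five : ∀ j : ZMod 5, j * j * j = 1 → j = 1 := by decide

theorem no_order_ten (g : A8) : orderOf g ≠ 10 := by
  intro h
  have hg : orderOf (g : Perm (Fin 8)) = 10 := by rw [Subgroup.orderOf_coe, h]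
  have hs : Perm.sign (g : Perm (Fin 8)) = 1 := Perm.mem_alternatingGroup.1 g.2
  set σ := (g : Perm (Fin 8))
  have hlcm := Perm.lcm_cycleType σ
  rw [hg] at hlcm
  have hsum : σ.cycleType.sum ≤ 8 := (Perm.sum_cycleType_le σ).trans (by simp)
  have hm : ∀ n ∈ σ.cycleType, n = 2 ∨ n = 5 := by
    intro n hn
    have h1 : n ∣ 10 := hlcm ▸ Multiset.dvd_lcm hn
    have h2 := Perm.two_le_of_mem_cycleType hn
    have h3 : n ≤ 8 := (Multiset.le_sum_of_mem hn).trans hsum
    interval_cases n <;> first | (exact Or.inl rfl) | (exact Or.inr rfl) | (exfalso; norm_num at h1)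
  have h5 : 5 ∈ σ.cycleType := by
    by_contra h5
    have : σ.cycleType.lcm ∣ 2 := Multiset.lcm_dvd.2 fun n hn => by
      rcases hm n hn with rfl | rfl
      · exact dvd_rfl
      · exact absurd hn h5
    rw [hlcm] at this
    norm_num at this
  have h2 : 2 ∈ σ.cycleType := by
    by_contra h2
    have : σ.cycleType.lcm ∣ 5 := Multiset.lcm_dvd.2 fun n hn => by
      rcases hm n hn with rfl | rfl
      · exact absurd hn h2
      · exact dvd_rfl
    rw [hlcm] at this
    norm_num at this
  obtain ⟨t, ht⟩ := Multiset.exists_cons_of_mem h5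
  obtain ⟨u, hu⟩ := Multiset.exists_cons_of_mem (show 2 ∈ t by
    rw [ht] at h2; exact (Multiset.mem_cons.1 h2).resolve_left (by norm_num))
  have hu0 : u = 0 := by
    by_contra hne
    obtain ⟨n, hn⟩ := Multiset.exists_mem_of_ne_zero hne
    have := Multiset.le_sum_of_mem hn
    have h3 := Perm.two_le_of_mem_cycleType (show n ∈ σ.cycleType by
      rw [ht, hu]; exact Multiset.mem_cons_of_mem (Multiset.mem_cons_of_mem hn))
    rw [ht, hu, Multiset.sum_cons, Multiset.sum_cons] at hsum
    omega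
  rw [Perm.sign_of_cycleType, ht, hu, hu0] at hs
  revert hs
  decide

theorem no_perm_seven (f : Perm (Fin 7) →* A8) : ¬ Function.Injective f := by
  intro hf
  let g : Perm (Fin 7) := swap 0 1 * swap 1 2 * swap 2 3 * swap 3 4 * swap 5 6
  have hg : orderOf g = 10 := by
    have h1 : g ^ 10 = 1 := by decide +kernel
    have h2 : g ^ 2 ≠ 1 := by decide +kernel
    have h5 : g ^ 5 ≠ 1 := by decide +kernel
    rw [orderOf_eq_iff (by norm_num)]
    refine ⟨h1, fun m hm hm0 hgm => ?_⟩
    have hd : orderOf g ∣ Nat.gcd m 10 :=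
      Nat.dvd_gcd (orderOf_dvd_of_pow_eq_one hgm) (orderOf_dvd_of_pow_eq_one h1)
    have h22 : ¬ orderOf g ∣ 2 := fun h => h2 (orderOf_dvd_iff_pow_eq_one.1 h)
    have h55 : ¬ orderOf g ∣ 5 := fun h => h5 (orderOf_dvd_iff_pow_eq_one.1 h)
    interval_cases m <;> norm_num at hd <;>
      first | exact h22 hd | exact h55 hd | exact h22 (by rw [hd]; norm_num)
  exact no_order_ten (f g) (by rw [orderOf_injective f hf, hg])

/-- `S₆` in `A₈`. -/
def sixEight : Perm (Fin 6) →* Perm (Fin 8) where
  toFun σ := (finSumFinEquiv (m := 6) (n := 2)).permCongr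
    (Perm.sumCongr σ (if Perm.sign σ = 1 then 1 else swap 0 1))
  map_one' := by ext x; simp
  map_mul' σ τ := by
    have h : (if Perm.sign (σ * τ) = 1 then (1 : Perm (Fin 2)) else swap 0 1) =
        (if Perm.sign σ = 1 then 1 else swap 0 1) * (if Perm.sign τ = 1 then 1 else swap 0 1) := by
      rw [map_mul]
      rcases Int.units_eq_one_or (Perm.sign σ) with h1 | h1 <;>
        rcases Int.units_eq_one_or (Perm.sign τ) with h2 | h2 <;> rw [h1, h2] <;> decide
    simp only [h]
    rw [← Perm.sumCongr_mul]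
    exact map_mul (finSumFinEquiv (m := 6) (n := 2)).permCongrHom _ _

theorem sixEight_mem (σ : Perm (Fin 6)) : sixEight σ ∈ alternatingGroup (Fin 8) := by
  rw [Perm.mem_alternatingGroup]
  show Perm.sign (Equiv.permCongr _ _) = 1
  rw [Perm.sign_permCongr, Perm.sign_sumCongr]
  rcases Int.units_eq_one_or (Perm.sign σ) with h1 | h1 <;> rw [h1] <;> decide

theorem sixEight_injective : Function.Injective sixEight := by
  intro σ τ h
  have h' := (finSumFinEquiv (m := 6) (n := 2)).permCongr.injective h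
  refine Equiv.ext fun x => ?_
  have := Equiv.ext_iff.1 h' (Sum.inl x)
  simpa using this

/-- The embedding in `A₈`. -/
def sixAlt : Perm (Fin 6) →* A8 := sixEight.codRestrict _ sixEight_mem

theorem sixAlt_injective : Function.Injective sixAlt := fun σ τ h =>
  sixEight_injective (congrArg Subtype.val h)

/-- No element of order fifteen. -/
theorem no_order_fifteen (σ : Perm (Fin 6)) : orderOf σ ≠ 15 := by
  intro hg
  have hlcm := Perm.lcm_cycleType σ
  rw [hg] at hlcm
  have hsum : σ.cycleType.sum ≤ 6 := (Perm.sum_cycleType_le σ).trans (by simp)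
  have hm : ∀ n ∈ σ.cycleType, n = 3 ∨ n = 5 := by
    intro n hn
    have h1 : n ∣ 15 := hlcm ▸ Multiset.dvd_lcm hn
    have h2 := Perm.two_le_of_mem_cycleType hn
    have h3 : n ≤ 6 := (Multiset.le_sum_of_mem hn).trans hsum
    interval_cases n <;> first | (exact Or.inl rfl) | (exact Or.inr rfl) | (exfalso; norm_num at h1)
  have h5 : 5 ∈ σ.cycleType := by
    by_contra h5
    have : σ.cycleType.lcm ∣ 3 := Multiset.lcm_dvd.2 fun n hn => by
      rcases hm n hn with rfl | rfl
      · exact dvd_rfl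
      · exact absurd hn h5
    rw [hlcm] at this
    norm_num at this
  obtain ⟨t, ht⟩ := Multiset.exists_cons_of_mem h5
  rcases eq_or_ne t 0 with rfl | hne
  · rw [ht] at hlcm
    simp at hlcm
  · obtain ⟨n, hn⟩ := Multiset.exists_mem_of_ne_zero hne
    have := Multiset.le_sum_of_mem hn
    have h3 := Perm.two_le_of_mem_cycleType (show n ∈ σ.cycleType by
      rw [ht]; exact Multiset.mem_cons_of_mem hn)
    rw [ht, Multiset.sum_cons] at hsum
    omega

theorem no_order_ninety (H : Subgroup (Perm (Fin 6))) : Nat.card H ≠ 90 := by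
  intro h90
  haveI : Fact (Nat.Prime 5) := ⟨by norm_num⟩
  haveI : Fact (Nat.Prime 3) := ⟨by norm_num⟩
  obtain ⟨P⟩ : Nonempty (Sylow 5 H) := inferInstance
  have hP5 : Nat.card P = 5 := by
    obtain ⟨n, hn⟩ := P.isPGroup'.exists_card_eq
    have hd : 5 ^ n ∣ 90 := h90 ▸ hn ▸ (P : Subgroup H).card_subgroup_dvd_card
    have hd5 : 5 ∣ 5 ^ n := hn ▸ P.dvd_card_of_dvd_card (by rw [h90]; norm_num)
    have hn1 : n ≤ 1 := by
      by_contra hlt
      have : 25 ∣ 90 := (show 25 ∣ 5 ^ n from pow_dvd_pow 5 (show 2 ≤ n by omega)).trans hd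
      norm_num at this
    interval_cases n
    · norm_num at hd5
    · simpa using hn
  set N := Subgroup.normalizer ((P : Subgroup H) : Set H) with hN
  have hmod : Nat.card (Sylow 5 H) ≡ 1 [MOD 5] := card_sylow_modEq_one 5 H
  have hmul := N.card_mul_index
  have hidx : Nat.card (Sylow 5 H) = N.index := P.card_eq_index_normalizer
  rw [h90] at hmul
  have hPN : (P : Subgroup H) ≤ N := Subgroup.le_normalizer
  have h5N : 5 ∣ Nat.card N := hP5 ▸ Subgroup.card_dvd_of_le hPN
  rw [hidx] at hmod
  have h3N : 3 ∣ Nat.card N := by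
    obtain ⟨k, hk⟩ := h5N
    rw [hk] at hmul ⊢
    have hk18 : k * N.index = 18 := by nlinarith
    have hkd : k ∣ 18 := ⟨_, hk18.symm⟩
    have hk0 : k ≤ 18 := Nat.le_of_dvd (by norm_num) hkd
    unfold Nat.ModEq at hmod
    interval_cases k <;> omega
  obtain ⟨c, hc⟩ := exists_prime_orderOf_dvd_card' (G := N) 3 h3N
  haveI : IsCyclic (P : Subgroup H) := isCyclic_of_prime_card hP5
  obtain ⟨a, ha⟩ := IsCyclic.exists_generator (α := (P : Subgroup H))
  have hc' : orderOf (c : H) = 3 := by rw [Subgroup.orderOf_coe, hc]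
  have ha' : orderOf (a : H) = 5 := by
    rw [Subgroup.orderOf_coe, orderOf_eq_card_of_forall_mem_zpowers ha, hP5]
  obtain ⟨i, hi⟩ : ∃ i : ℤ, (c : H) * a * (c : H)⁻¹ = (a : H) ^ i := by
    obtain ⟨i, hi⟩ := Subgroup.mem_zpowers_iff.1
      (ha ⟨(c : H) * a * (c : H)⁻¹, (Subgroup.mem_normalizer_iff.1 c.2 a).1 a.2⟩)
    exact ⟨i, by rw [← Subgroup.coe_zpow, hi]⟩
  have hi3 : (a : H) ^ (i * i * i) = a := by
    have step : ∀ m : ℤ, (c : H) * (a : H) ^ m * (c : H)⁻¹ = (a : H) ^ (i * m) := fun m => by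
      rw [← conj_zpow, hi, ← zpow_mul]
    have c3 : (c : H) ^ 3 = 1 := by rw [← hc', pow_orderOf_eq_one]
    calc (a : H) ^ (i * i * i) = (c : H) * ((c : H) * ((c : H) * a * (c : H)⁻¹) * (c : H)⁻¹) * (c : H)⁻¹ := by
          rw [hi, step, step]; ring_nf
      _ = (c : H) ^ 3 * a * ((c : H) ^ 3)⁻¹ := by
          simp only [pow_succ, pow_zero, one_mul, _root_.mul_inv_rev, mul_assoc]
      _ = a := by rw [c3]; group
  have hi1 : (a : H) ^ i = a := by
    have h1 : (a : H) ^ (i * i * i - 1) = 1 := by rw [zpow_sub, hi3, zpow_one, mul_inv_cancel]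
    have h := orderOf_dvd_iff_zpow_eq_one.2 h1
    rw [ha', ← ZMod.intCast_zmod_eq_zero_iff_dvd _ 5] at h
    push_cast at h
    have h2 : ((i - 1 : ℤ) : ZMod 5) = 0 := by
      push_cast; rw [cube_five _ (sub_eq_zero.1 h), sub_self]
    rw [ZMod.intCast_zmod_eq_zero_iff_dvd] at h2
    rw [← sub_add_cancel i 1, zpow_add_one,
      orderOf_dvd_iff_zpow_eq_one.1 (by rw [ha']; exact_mod_cast h2), one_mul]
  have hcomm : Commute (c : H) (a : H) := by
    rw [hi1] at hi
    exact mul_inv_eq_iff_eq_mul.1 hi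
  have h15 : orderOf ((c : H) * a) = 15 := by
    rw [hcomm.orderOf_mul_eq_mul_orderOf_of_coprime (by rw [hc', ha']; norm_num), hc', ha']
  exact no_order_fifteen _ (by rw [Subgroup.orderOf_coe]; exact h15)

/-- The restriction to the complement of an invariant set is even, up to the restriction to the set. -/
theorem card_kernel_le {G : Type*} [Group G] [Finite G] (φ : G →* Perm (Fin 8)) (hφ : Function.Injective φ)
    (hev : ∀ g, Perm.sign (φ g) = 1) (T : Finset (Fin 8)) (hT : T.card = 5) (K : Subgroup G)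
    (hK : ∀ g ∈ K, ∀ x ∈ T, φ g x = x) : Nat.card K ≤ 3 := by
  classical
  have hinv : ∀ g ∈ K, ∀ x, (φ g x ∉ T ↔ x ∉ T) := fun g hg x => by
    constructor
    · intro h hx; exact h (by rw [hK g hg x hx]; exact hx)
    · intro hx h
      exact hx (((φ g).injective (hK g hg _ h)) ▸ h)
  let f : K → alternatingGroup {x : Fin 8 // x ∉ T} := fun g =>
    ⟨(φ g).subtypePerm (fun x => hinv g g.2 x), Perm.mem_alternatingGroup.2 (by
      exact (Perm.sign_subtypePerm (p := fun x => x ∉ T) _ _ fun x hx hxT => hx (hK g g.2 x hxT)).trans (hev g))⟩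
  have hf : Function.Injective f := by
    intro g k h
    refine Subtype.ext (hφ (Equiv.ext fun x => ?_))
    by_cases hx : x ∈ T
    · rw [hK g g.2 x hx, hK k k.2 x hx]
    · exact congrArg Subtype.val (Equiv.ext_iff.1 (congrArg Subtype.val h) ⟨x, hx⟩)
  refine (Nat.card_le_card_of_injective f hf).trans (le_of_eq ?_)
  have hc : Fintype.card {x : Fin 8 // x ∉ T} = 3 := by
    rw [Fintype.card_subtype_compl, Fintype.card_fin, Fintype.card_coe, hT]
  haveI : Nontrivial {x : Fin 8 // x ∉ T} := Fintype.one_lt_card_iff_nontrivial.1 (by omega)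
  rw [nat_card_alternatingGroup, Nat.card_eq_fintype_card, hc]; rfl

/-- An `S₆` in `A₈` fixes a pair. -/
theorem exists_pair (j : Perm (Fin 6) →* A8) (hj : Function.Injective j) :
    ∃ P : Finset (Fin 8), P.card = 2 ∧ ∀ σ, ∀ x ∈ P, (j σ : Perm (Fin 8)) x ∈ P := by
  classical
  let φ : Perm (Fin 6) →* Perm (Fin 8) := (alternatingGroup (Fin 8)).subtype.comp j
  have hφ : Function.Injective φ := Subtype.coe_injective.comp hj
  letI : MulAction (Perm (Fin 6)) (Fin 8) := MulAction.compHom (Fin 8) φ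
  have h720 : Nat.card (Perm (Fin 6)) = 720 := by rw [Nat.card_perm, Nat.card_fin]; rfl
  have hns : ¬ Group.IsSolvable (Perm (Fin 6)) := Equiv.Perm.not_isSolvable _ (by rw [Cardinal.mk_fin]; norm_num)
  obtain ⟨a, ha⟩ : ∃ a : Fin 8, 5 ≤ Nat.card (orbit (Perm (Fin 6)) a) := by
    by_contra hcon
    push Not at hcon
    refine hns (CfsgLib.AEightSub.isSolvable_of_invariant φ (fun x => orbit (Perm (Fin 6)) x)
      (fun g x => ?_) (fun b => ?_) hφ)
    · show orbit (Perm (Fin 6)) (g • x) = orbit (Perm (Fin 6)) x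
      exact orbit_smul g x
    · rcases isEmpty_or_nonempty {x : Fin 8 // orbit (Perm (Fin 6)) x = b} with h | ⟨⟨x, hx⟩⟩
      · simp
      · refine le_trans (Nat.card_le_card_of_injective
          (fun y : {x : Fin 8 // orbit (Perm (Fin 6)) x = b} =>
            (⟨y.1, (y.2.trans hx.symm) ▸ mem_orbit_self y.1⟩ : orbit (Perm (Fin 6)) x)) ?_) ?_
        · exact fun u w h => Subtype.ext (congrArg (fun z : orbit (Perm (Fin 6)) x => (z : Fin 8)) h)
        · exact Nat.lt_succ_iff.1 (hcon x)
  set O := orbit (Perm (Fin 6)) a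
  have hle8 : Nat.card O ≤ 8 := (Nat.card_le_card_of_injective _ Subtype.val_injective).trans (by simp)
  have hmul := (stabilizer (Perm (Fin 6)) a).card_mul_index
  rw [index_stabilizer, ← Nat.card_coe_set_eq, h720] at hmul
  change Nat.card (stabilizer (Perm (Fin 6)) a) * Nat.card O = 720 at hmul
  have hOinv : ∀ σ x, x ∈ O → φ σ x ∈ O := fun σ x hx => by
    obtain ⟨τ, rfl⟩ := hx
    exact ⟨σ * τ, mul_smul σ τ a⟩
  rcases (show Nat.card O = 5 ∨ Nat.card O = 6 ∨ Nat.card O = 7 ∨ Nat.card O = 8 by omega) with h | h | h | h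
  · exfalso
    let π := MulAction.toPermHom (Perm (Fin 6)) O
    have h1 := π.ker.card_mul_index
    rw [Subgroup.index_ker, h720] at h1
    have h2 : Nat.card π.range ≤ 120 := by
      refine (Subgroup.card_le_card_group _).trans (le_of_eq ?_)
      rw [Nat.card_perm, h]; rfl
    have h3 := card_kernel_le φ hφ (fun g => Perm.mem_alternatingGroup.1 (j g).2) O.toFinset
      (by rw [← Set.ncard_eq_toFinset_card', ← Nat.card_coe_set_eq, h]) π.ker fun g hg x hx => by
        exact congrArg Subtype.val (Equiv.ext_iff.1 (MonoidHom.mem_ker.1 hg) ⟨x, Set.mem_toFinset.1 hx⟩)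
    nlinarith
  · refine ⟨O.toFinsetᶜ, ?_, fun σ x hx => ?_⟩
    · rw [Finset.card_compl, ← Set.ncard_eq_toFinset_card', ← Nat.card_coe_set_eq, h]; rfl
    · rw [Finset.mem_compl, Set.mem_toFinset] at hx ⊢
      intro hmem
      refine hx ?_
      have h2 := hOinv σ⁻¹ _ hmem
      simpa [φ] using h2
  · rw [h] at hmul; omega
  · exfalso
    rw [h] at hmul
    exact no_order_ninety (stabilizer (Perm (Fin 6)) a) (by omega)

theorem range_eq_stabilizer (j : Perm (Fin 6) →* A8) (hj : Function.Injective j) :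
    ∃ P : Finset (Fin 8), P.card = 2 ∧ j.range = stabilizer A8 P := by
  classical
  obtain ⟨P, hP, hinv⟩ := exists_pair j hj
  refine ⟨P, hP, Subgroup.eq_of_le_of_card_ge ?_ ?_⟩
  · rintro _ ⟨σ, rfl⟩
    rw [mem_stabilizer_iff]
    refine Finset.eq_of_subset_of_card_le ?_ (by rw [Finset.card_smul_finset])
    intro x hx
    obtain ⟨y, hy, rfl⟩ := Finset.mem_smul_finset.1 hx
    exact hinv σ y hy
  · rw [← Nat.card_congr (MonoidHom.ofInjective hj).toEquiv, Nat.card_perm, Nat.card_fin]
    have hst : ∀ g : stabilizer A8 P, ∀ x, ((g : A8) : Perm (Fin 8)) x ∉ P ↔ x ∉ P := fun g x => by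
      have h := mem_stabilizer_iff.1 g.2
      have h' : (g : A8) • x ∈ (g : A8) • P ↔ x ∈ P := Finset.smul_mem_smul_finset_iff _
      rw [h] at h'
      exact not_congr h'
    let f : stabilizer A8 P → Perm {x : Fin 8 // x ∉ P} := fun g =>
      ((g : A8) : Perm (Fin 8)).subtypePerm (hst g)
    have hf : Function.Injective f := by
      intro g k hgk
      refine Subtype.ext (Subtype.ext ?_)
      set d := ((k : A8) : Perm (Fin 8))⁻¹ * ((g : A8) : Perm (Fin 8)) with hd
      have hfix : ∀ x, x ∉ P → d x = x := fun x hx => by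
        have e := congrArg Subtype.val (Equiv.ext_iff.1 hgk ⟨x, hx⟩)
        change ((g : A8) : Perm (Fin 8)) x = ((k : A8) : Perm (Fin 8)) x at e
        rw [hd, Perm.mul_apply, e]
        exact Equiv.symm_apply_apply _ x
      have hsupp : d.support.card ≤ 2 := hP ▸ Finset.card_le_card (fun x hx => by
        by_contra hxP
        exact Perm.mem_support.1 hx (hfix x hxP))
      have hsign : Perm.sign d = 1 := by
        rw [hd, map_mul, Perm.sign_inv, Perm.mem_alternatingGroup.1 (g : A8).2,
          Perm.mem_alternatingGroup.1 (k : A8).2, one_mul]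
      have h1 : d = 1 := by
        rcases (show d.support.card = 0 ∨ d.support.card = 1 ∨ d.support.card = 2 by omega) with e | e | e
        · exact Perm.support_eq_empty_iff.1 (Finset.card_eq_zero.1 e)
        · exact absurd e (Perm.card_support_ne_one d)
        · rw [(Perm.card_support_eq_two.1 e).sign_eq] at hsign
          exact absurd hsign (by decide)
      rw [hd, inv_mul_eq_one] at h1
      exact h1.symm
    refine (Nat.card_le_card_of_injective f hf).trans (le_of_eq ?_)
    rw [Nat.card_perm, Nat.card_eq_fintype_card, Fintype.card_subtype_compl, Fintype.card_coe, hP,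
      Fintype.card_fin]

/-- All `S₆` in `A₈` are conjugate. -/
theorem six_conjugate (j k : Perm (Fin 6) →* A8) (hj : Function.Injective j) (hk : Function.Injective k) :
    ∃ g : A8, ∀ σ, g * j σ * g⁻¹ ∈ k.range := by
  classical
  obtain ⟨P, hP, eP⟩ := range_eq_stabilizer j hj
  obtain ⟨R, hR, eR⟩ := range_eq_stabilizer k hk
  obtain ⟨a, b, hab, rfl⟩ := Finset.card_eq_two.1 hP
  obtain ⟨c, d, hcd, rfl⟩ := Finset.card_eq_two.1 hR
  obtain ⟨g, hg⟩ : ∃ g : A8, g • ({a, b} : Finset (Fin 8)) = {c, d} := by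
    let g₁ : Perm (Fin 8) := swap (swap a c b) d * swap a c
    have h1 : g₁ a = c := by
      show swap (swap a c b) d (swap a c a) = c
      rw [swap_apply_left, swap_apply_of_ne_of_ne ?_ hcd]
      intro h
      have := (swap a c).injective (show swap a c a = swap a c b by rw [swap_apply_left]; exact h)
      exact hab this
    have h2 : g₁ b = d := by
      show swap (swap a c b) d (swap a c b) = d
      rw [swap_apply_left]
    by_cases he : g₁ ∈ alternatingGroup (Fin 8)
    · exact ⟨⟨g₁, he⟩, by simp [Finset.smul_finset_insert, Finset.smul_finset_singleton, Subgroup.smul_def, h1, h2]⟩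
    · refine ⟨⟨swap c d * g₁, Perm.mem_alternatingGroup.2 ?_⟩, ?_⟩
      · rw [map_mul, Perm.sign_swap hcd]
        rw [Perm.mem_alternatingGroup] at he
        rw [(Int.units_eq_one_or _).resolve_left he]; rfl
      · simp [Finset.smul_finset_insert, Finset.smul_finset_singleton, Subgroup.smul_def, h1, h2,
          Finset.pair_comm]
  refine ⟨g, fun σ => ?_⟩
  rw [eR, mem_stabilizer_iff, ← hg, mul_smul, mul_smul, inv_smul_smul,
    mem_stabilizer_iff.1 (eP.le ⟨σ, rfl⟩)]

end CfsgLib.RankFourQuot
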