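import Cfsg.Agent.Lib.RankFourQuot.SixModel
import Cfsg.Agent.Lib.RankFourQuot.AEight
import Cfsg.Agent.Lib.RankFourRadical.Apply
import Cfsg.Agent.Lib.Coprime.Action
import Cfsg.Agent.Lib.PSolvable.Omega
import Cfsg.Agent.Lib.PSolvable.Constrained
import Cfsg.Agent.Lib.PSolvable.Core
import Cfsg.Agent.Lib.Fitting.Basic

/-!
`S₆` over a radical needs sectional rank five.
-/

set_option autoImplicit false
set_option linter.style.haveILetI false

namespace CfsgLib.RankFourQuot

open Equiv Matrix

theorem center_six : ∀ σ : Perm (Fin 6), σ * swap 0 1 = swap 0 1 * σ → σ * swap 1 2 = swap 1 2 * σ →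
    σ * swap 2 3 = swap 2 3 * σ → σ * swap 3 4 = swap 3 4 * σ → σ * swap 4 5 = swap 4 5 * σ → σ = 1 := by
  decide +kernel

/-- `S₆` has no normal two-subgroup. -/
theorem two_normal_six (N : Subgroup (Perm (Fin 6))) [N.Normal] (hN : IsPGroup 2 N) : N = ⊥ := by
  haveI : Fact (Nat.Prime 2) := ⟨Nat.prime_two⟩
  haveI : IsSimpleGroup (alternatingGroup (Fin 6)) := alternatingGroup.isSimpleGroup (by simp)
  have hA : Nat.card (alternatingGroup (Fin 6)) = 360 := by
    rw [nat_card_alternatingGroup]; simp [Nat.factorial]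
  rcases ((inferInstance : N.Normal).subgroupOf (alternatingGroup (Fin 6))).eq_bot_or_eq_top with h | h
  · rw [Subgroup.subgroupOf_eq_bot, disjoint_iff] at h
    refine (Subgroup.eq_bot_iff_forall _).2 fun σ hσ => ?_
    have hc : ∀ τ : Perm (Fin 6), σ * τ = τ * σ := fun τ => by
      rw [← commutatorElement_eq_one_iff_mul_comm, ← Subgroup.mem_bot, ← h]
      refine ⟨?_, ?_⟩
      · rw [commutatorElement_def, mul_assoc, mul_assoc]
        refine mul_mem hσ ?_
        rw [← mul_assoc]
        exact Subgroup.Normal.conj_mem inferInstance _ (inv_mem hσ) τ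
      · show _ ∈ alternatingGroup (Fin 6)
        rw [Perm.mem_alternatingGroup, commutatorElement_def, map_mul, map_mul, map_mul, map_inv, map_inv,
          mul_comm (Perm.sign σ), mul_inv_cancel_right, mul_inv_cancel]
    exact center_six σ (hc _) (hc _) (hc _) (hc _) (hc _)
  · exfalso
    rw [Subgroup.subgroupOf_eq_top] at h
    obtain ⟨n, hn⟩ := (hN.to_le h).exists_card_eq
    rw [hA] at hn
    have h5 : (5 : ℕ) ∣ 2 ^ n := hn ▸ (by norm_num)
    exact absurd ((Nat.prime_dvd_prime_iff_eq (by norm_num) Nat.prime_two).1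
      ((by norm_num : Nat.Prime 5).dvd_of_dvd_pow h5)) (by norm_num)

variable {X : Type*} [Group X] [Finite X]

/-- Coordinates for a radical under `S₆`. -/
theorem exists_coords (Q : Subgroup X) [Q.Normal] (hQ2 : IsPGroup 2 Q)
    (hC : Subgroup.centralizer (Q : Set X) ≤ Q) (hr : Cfsg.SectionalPRankLE 2 4 X)
    (f : X →* Perm (Fin 6)) (hf : Function.Surjective f) (hker : f.ker = Q) :
    ∃ (f' : X →* Perm (Fin 6)) (θ : Q →* Multiplicative V4), Function.Surjective f' ∧ f'.ker = Q ∧
      Function.Surjective θ ∧ ∀ (x : X) (q : Q), (θ (MulAut.conjNormal x q)).toAdd = act6 (f' x) (θ q).toAdd := by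
  classical
  haveI := Fact.mk Nat.prime_two
  let V := Q ⧸ frattini Q
  have hV2 : ∀ v : V, v ^ 2 = 1 := by
    intro v
    obtain ⟨v, rfl⟩ := QuotientGroup.mk'_surjective _ v
    rw [← map_pow, QuotientGroup.mk'_apply, QuotientGroup.eq_one_iff]
    exact (CfsgLib.PSolvable.commutator_le_frattini hQ2).2 v
  have hVc : ∀ a b : V, a * b = b * a := fun a b => by
    have hi : ∀ v : V, v⁻¹ = v := fun v => inv_eq_of_mul_eq_one_right (by rw [← pow_two]; exact hV2 v)
    rw [← hi (a * b), _root_.mul_inv_rev, hi, hi]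
  have hV16 : Nat.card V ≤ 2 ^ 4 := by
    have h := CfsgLib.DEightWreath.card_le_of_sectional hr (X := Q) (K := (frattini Q).map Q.subtype)
      ⟨Subgroup.map_subtype_le _, fun x hx =>
        ⟨⟨x, hx⟩ ^ 2, (CfsgLib.PSolvable.commutator_le_frattini hQ2).2 _, by simp [pow_two]⟩⟩
    rw [Subgroup.card_map_of_injective Q.subtype_injective,
      Subgroup.card_eq_card_quotient_mul_card_subgroup (frattini Q)] at h
    exact Nat.le_of_mul_le_mul_right h Nat.card_pos
  letI : CommGroup V := { (inferInstance : Group V) with mul_comm := hVc }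
  letI : Module (ZMod 2) (Additive V) := AddCommGroup.zmodModule (fun v => by
    show Additive.ofMul (v.toMul ^ 2) = 0
    rw [hV2]; rfl)
  haveI : Module.Finite (ZMod 2) (Additive V) := Module.Finite.of_finite
  set k := Module.finrank (ZMod 2) (Additive V)
  have hk : k ≤ 4 := by
    have h := Module.natCard_eq_pow_finrank (K := ZMod 2) (V := Additive V)
    rw [Nat.card_zmod, ← Nat.card_congr (Additive.ofMul : V ≃ Additive V)] at h
    exact (Nat.pow_le_pow_iff_right (by norm_num)).mp (h ▸ hV16)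
  let e : (Additive V × (Fin (4 - k) → ZMod 2)) ≃ₗ[ZMod 2] V4 :=
    LinearEquiv.ofFinrankEq _ _ (by rw [Module.finrank_prod, Module.finrank_fin_fun, Module.finrank_fin_fun]; omega)
  let g : MulAut V →* LinearMap.GeneralLinearGroup (ZMod 2) V4 :=
    { toFun := fun α => LinearMap.GeneralLinearGroup.ofLinearEquiv
        (e.symm ≪≫ₗ (LinearEquiv.prodCongr ((MulEquiv.toAdditive α).toLinearEquiv
          (fun c x => ZMod.map_smul (MulEquiv.toAdditive α).toAddMonoidHom c x)) (LinearEquiv.refl _ _)) ≪≫ₗ e)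
      map_one' := Units.ext (LinearMap.ext fun x => e.apply_symm_apply x)
      map_mul' := fun α β => Units.ext (LinearMap.ext fun x => by
        simp [LinearMap.GeneralLinearGroup.ofLinearEquiv]
        rfl) }
  let φ : MulAut Q →* MulAut V :=
    { toFun := fun α => QuotientGroup.congr (frattini Q) (frattini Q) α
        ((Subgroup.characteristic_iff_map_eq.mp inferInstance) α)
      map_one' := MulEquiv.ext fun v => by
        obtain ⟨v, rfl⟩ := QuotientGroup.mk'_surjective _ v
        rfl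
      map_mul' := fun α β => MulEquiv.ext fun v => by
        obtain ⟨v, rfl⟩ := QuotientGroup.mk'_surjective _ v
        rfl }
  let ρ : X →* GL (Fin 4) (ZMod 2) :=
    Matrix.GeneralLinearGroup.toLin.symm.toMonoidHom.comp (g.comp (φ.comp MulAut.conjNormal))
  have hρ : ∀ (x : X) (w : Additive V × (Fin (4 - k) → ZMod 2)),
      (ρ x : Matrix (Fin 4) (Fin 4) (ZMod 2)) *ᵥ e w =
        e (Additive.ofMul ((φ (MulAut.conjNormal x)) w.1.toMul), w.2) := fun x w => by
    show LinearMap.toMatrix' _ *ᵥ e w = _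
    rw [LinearMap.toMatrix'_mulVec]
    simp [g, LinearMap.GeneralLinearGroup.ofLinearEquiv]
  have hQker : Q ≤ ρ.ker := fun p hp => by
    have h1 : φ (MulAut.conjNormal p) = 1 := MulEquiv.ext fun v => by
      obtain ⟨v, rfl⟩ := QuotientGroup.mk'_surjective _ v
      show QuotientGroup.mk' (frattini Q) (MulAut.conjNormal p v) = QuotientGroup.mk' (frattini Q) v
      rw [show MulAut.conjNormal p v = ⟨p, hp⟩ * v * ⟨p, hp⟩⁻¹ from Subtype.ext (MulAut.conjNormal_apply p v),
        map_mul, map_mul, map_inv]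
      rw [hVc (QuotientGroup.mk' (frattini Q) ⟨p, hp⟩), mul_inv_cancel_right]
    rw [MonoidHom.mem_ker, MonoidHom.comp_apply, MonoidHom.comp_apply, MonoidHom.comp_apply, h1, map_one, map_one]
  have hkerQ : ρ.ker = Q := by
    refine le_antisymm ?_ hQker
    have hgi : Function.Injective g := fun α β h => by
      refine MulEquiv.ext fun v => ?_
      have h1 := DFunLike.congr_fun (congrArg Units.val h) (e (Additive.ofMul v, 0))
      simp [g, LinearMap.GeneralLinearGroup.ofLinearEquiv] at h1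
      exact h1
    have hp : IsPGroup 2 ρ.ker := by
      refine CfsgLib.PSolvable.isPGroup_of_forall_coprime fun x hx hxp => ?_
      have hx' : φ (MulAut.conjNormal x) = 1 := by
        refine hgi ?_
        rw [map_one]
        have h := MonoidHom.mem_ker.1 hx
        rw [MonoidHom.comp_apply, MulEquiv.coe_toMonoidHom,
          map_eq_one_iff _ (Matrix.GeneralLinearGroup.toLin (n := Fin 4) (R := ZMod 2)).symm.injective] at h
        exact h
      have htriv : ∀ v : Q, v⁻¹ * MulAut.conjNormal x v ∈ frattini Q := fun v => by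
        rw [← QuotientGroup.eq]
        exact (DFunLike.congr_fun hx' (QuotientGroup.mk' _ v)).symm
      have h1 := CfsgLib.Coprime.mulAut_eq_one_of_frattini (MulAut.conjNormal x : MulAut Q) ?_ htriv
      · have hxC : x ∈ Subgroup.centralizer (Q : Set X) := Subgroup.mem_centralizer_iff.mpr fun p hp => by
          have h2 := congrArg Subtype.val (DFunLike.congr_fun h1 ⟨p, hp⟩)
          rw [MulAut.conjNormal_apply, MulAut.one_apply] at h2
          exact (mul_inv_eq_iff_eq_mul.mp h2).symm
        obtain ⟨k, hk⟩ := hQ2 ⟨x, hC hxC⟩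
        have hk' : x ^ 2 ^ k = 1 := congrArg Subtype.val hk
        rw [← orderOf_eq_one_iff]
        exact Nat.eq_one_of_dvd_coprimes (hxp.pow_right k) dvd_rfl (orderOf_dvd_of_pow_eq_one hk')
      · obtain ⟨k, hk⟩ := IsPGroup.iff_card.mp (hQ2.to_subgroup (frattini Q))
        rw [hk]
        exact (hxp.coprime_dvd_left (orderOf_map_dvd _ _)).pow_right k
    haveI : (ρ.ker.map f).Normal := (inferInstance : ρ.ker.Normal).map f hf
    have h0 := two_normal_six (ρ.ker.map f) (hp.map f)
    rw [Subgroup.map_eq_bot_iff, hker] at h0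
    exact h0
  -- transport to the model
  let ρ' : Perm (Fin 6) →* GL (Fin 4) (ZMod 2) := f.liftOfSurjective hf ⟨ρ, by rw [hker, hkerQ]⟩
  have hρ' : ∀ x, ρ' (f x) = ρ x := fun x => f.liftOfRightInverse_comp_apply _ _ _ x
  have hρ'i : Function.Injective ρ' := by
    refine (injective_iff_map_eq_one _).2 fun σ hσ => ?_
    obtain ⟨x, rfl⟩ := hf σ
    rw [hρ'] at hσ
    rw [← MonoidHom.mem_ker, hker, ← hkerQ]
    exact hσ
  obtain ⟨e8⟩ := CfsgLib.Classical.GLFourTwo.gl_equiv_alt (F := ZMod 2) (ZMod.card 2)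
  obtain ⟨a, ha⟩ := six_conjugate (e8.toMonoidHom.comp ρ') (e8.toMonoidHom.comp rho6)
    (e8.injective.comp hρ'i) (e8.injective.comp rho6_injective)
  set h := e8.symm a with hh
  have hconj : ∀ σ, ∃ τ, rho6 τ = h * ρ' σ * h⁻¹ := fun σ => by
    obtain ⟨τ, hτ⟩ := ha σ
    exact ⟨τ, e8.injective (by simpa [hh] using hτ)⟩
  choose τ hτ using hconj
  let τh : Perm (Fin 6) →* Perm (Fin 6) := MonoidHom.mk' τ fun a b => rho6_injective (by
    rw [map_mul, hτ, hτ, hτ, map_mul]; group)
  have hτi : Function.Injective τh := fun a b hab => hρ'i (by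
    have h1 := congrArg rho6 hab
    simp only [τh, MonoidHom.mk'_apply, hτ] at h1
    exact mul_left_cancel (mul_right_cancel h1))
  have hτs : Function.Surjective τh := Finite.injective_iff_surjective.1 hτi
  let H : Matrix (Fin 4) (Fin 4) (ZMod 2) := h.val
  let θ : Q →* Multiplicative V4 := MonoidHom.mk'
    (fun q => Multiplicative.ofAdd (H *ᵥ e (Additive.ofMul (QuotientGroup.mk' (frattini Q) q), 0)))
    fun p q => by
      rw [← ofAdd_add, ← Matrix.mulVec_add, ← map_add, map_mul, ofMul_mul]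
      simp
  have hrel : ∀ (x : X) (v : V4), act6 (τh (f x)) (H *ᵥ v) = H *ᵥ ((ρ x : Matrix (Fin 4) (Fin 4) (ZMod 2)) *ᵥ v) := by
    intro x v
    rw [← rho6_val, show rho6 (τh (f x)) = h * ρ x * h⁻¹ by rw [← hρ']; exact hτ _, Matrix.mulVec_mulVec,
      Matrix.mulVec_mulVec, show H = h.val from rfl]
    rw [← Units.val_mul, ← Units.val_mul, inv_mul_cancel_right]
  refine ⟨τh.comp f, θ, hτs.comp hf, ?_, ?_, fun x q => ?_⟩
  · ext x
    rw [MonoidHom.mem_ker, MonoidHom.comp_apply, map_eq_one_iff _ hτi, ← MonoidHom.mem_ker, hker]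
  · intro w
    obtain ⟨⟨v, u⟩, hvu⟩ := e.surjective ((h⁻¹).val *ᵥ w.toAdd)
    have hu : u = 0 := by
      have hfix : ∀ x : X, act6 (τh (f x)) (H *ᵥ e (0, u)) = H *ᵥ e (0, u) := fun x => by
        rw [hrel, hρ]; simp
      have h0 : H *ᵥ e (0, u) = 0 := no_fixed _ fun σ => by
        obtain ⟨x, rfl⟩ := hτs.comp hf σ
        exact hfix x
      have h1 : e (0, u) = 0 := by
        have := congrArg ((h⁻¹).val *ᵥ ·) h0
        simpa [H, Matrix.mulVec_mulVec] using this
      exact congrArg Prod.snd (e.map_eq_zero_iff.1 h1)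
    subst hu
    obtain ⟨q, hq⟩ := QuotientGroup.mk'_surjective (frattini Q) v.toMul
    refine ⟨q, ?_⟩
    show Multiplicative.ofAdd (H *ᵥ e (Additive.ofMul (QuotientGroup.mk' (frattini Q) q), 0)) = w
    rw [hq, ofMul_toMul, hvu, Matrix.mulVec_mulVec]
    simp [H]
  · show H *ᵥ e (Additive.ofMul (QuotientGroup.mk' (frattini Q) (MulAut.conjNormal x q)), 0) =
      act6 (τh (f x)) (H *ᵥ e (Additive.ofMul (QuotientGroup.mk' (frattini Q) q), 0))
    rw [hrel, hρ]
    rfl

/-- No radical of rank four under `S₆`. -/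
theorem no_six (Q : Subgroup X) [Q.Normal] (hQ2 : IsPGroup 2 Q)
    (hC : Subgroup.centralizer (Q : Set X) ≤ Q) (hr : Cfsg.SectionalPRankLE 2 4 X)
    (f₀ : X →* Perm (Fin 6)) (hf₀ : Function.Surjective f₀) (hker₀ : f₀.ker = Q) : False := by
  classical
  haveI := Fact.mk Nat.prime_two
  haveI : Fact (Nat.Prime 3) := ⟨by norm_num⟩
  obtain ⟨f, θ, hf, hker, hθ, heq⟩ := exists_coords Q hQ2 hC hr f₀ hf₀ hker₀
  have hmem : ∀ x, x ∈ Q ↔ f x = 1 := fun x => by rw [← hker, MonoidHom.mem_ker]
  let L : Subgroup Q := lSub.toSubgroup.comap θ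
  let K : Subgroup X := L.map Q.subtype
  let W : Subgroup X := eSub.comap f
  have hK : Nat.card Q = 4 * Nat.card K := by
    have h1 := L.card_mul_index
    rw [Subgroup.index_comap_of_surjective _ hθ] at h1
    have h2 : lSub.toSubgroup.index = 4 := by
      have h := lSub.toSubgroup.card_mul_index
      have hc : Nat.card lSub.toSubgroup = 4 := by
        have e : lSub.toSubgroup ≃ {v : V4 // v 0 = v 1 ∧ v 2 = v 3} :=
          Multiplicative.toAdd.subtypeEquiv fun v => Iff.rfl
        rw [Nat.card_congr e, Nat.card_eq_fintype_card]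
        decide +kernel
      rw [hc, Nat.card_congr Multiplicative.toAdd, Nat.card_fun, Nat.card_zmod, Nat.card_fin] at h
      omega
    rw [h2] at h1
    rw [Subgroup.card_map_of_injective Q.subtype_injective]
    omega
  have hW : Nat.card W = 8 * Nat.card Q := by
    have h1 := (f.subgroupComap eSub).ker.card_mul_index
    rw [Subgroup.index_ker, MonoidHom.range_eq_top.2 (f.subgroupComap_surjective_of_surjective _ hf),
      Subgroup.card_top, card_eSub] at h1
    have h2 : (f.subgroupComap eSub).ker = Q.subgroupOf W := by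
      ext w
      rw [MonoidHom.mem_ker, Subgroup.mem_subgroupOf, Subtype.ext_iff]
      exact (hmem _).symm
    rw [h2, Nat.card_congr (Subgroup.subgroupOfEquivOfLe (fun q hq => by
      show f q ∈ eSub; rw [(hmem q).1 hq]; exact one_mem _)).toEquiv] at h1
    change _ = Nat.card W at h1
    omega
  have hadd : ∀ p q : Q, (θ (p * q)).toAdd = (θ p).toAdd + (θ q).toAdd := fun p q => by rw [map_mul]; rfl
  have hsq : ∀ w ∈ W, w * w ∈ K := by
    intro w hw
    have hσ : f w ∈ eSet := hw
    rcases exists_three _ hσ with h1 | ⟨y, -, hy3, hyc, hfix⟩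
    · set q : Q := ⟨w, (hmem w).2 h1⟩
      refine ⟨q * q, ?_, rfl⟩
      show (θ (q * q)).toAdd ∈ lSub
      rw [hadd, show (θ q).toAdd + (θ q).toAdd = 0 from funext fun i => CharTwo.add_self_eq_zero _]
      exact zero_mem _
    obtain ⟨y', hy', hy'3⟩ := CfsgLib.RankFourRadical.exists_lift f hf (hker ▸ hQ2) (n := 3) (by norm_num) hy3
    obtain ⟨c, hc, hc3, hcy⟩ : ∃ c, f c = f (w * y' * w⁻¹) ∧ c ^ 3 = 1 ∧ (c = y' ∨ c = y' * y') := by
      rcases hyc with h | h
      · exact ⟨y', by rw [map_mul, map_mul, map_inv, hy', h], hy'3, Or.inl rfl⟩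
      · refine ⟨y' * y', by rw [map_mul, map_mul, map_mul, map_inv, hy', h], ?_, Or.inr rfl⟩
        rw [← pow_two, ← pow_mul, mul_comm, pow_mul, hy'3, one_pow]
    set b := w * y' * w⁻¹ with hb
    have hb3 : b ^ 3 = 1 := by rw [hb, conj_pow, hy'3, mul_one, mul_inv_cancel]
    haveI := Fintype.ofFinite Q
    let s₀ : Q → Q := fun q => ⟨c * q * b⁻¹, by
      rw [hmem, map_mul, map_mul, (hmem q).1 q.2, mul_one, hc, map_inv, mul_inv_cancel]⟩
    have hinj : Function.Injective s₀ := fun p q h => Subtype.ext (by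
      simpa [s₀] using congrArg Subtype.val h)
    let S : Equiv.Perm Q := Equiv.ofBijective s₀ (Finite.injective_iff_bijective.1 hinj)
    have hpow : ∀ (n : ℕ) (q : Q), ((S ^ n) q : X) = c ^ n * q * (b ^ n)⁻¹ := by
      intro n
      induction n with
      | zero => intro q; simp
      | succ n ih =>
        intro q
        rw [pow_succ', Equiv.Perm.mul_apply]
        show c * ((S ^ n) q : X) * b⁻¹ = _
        rw [ih, pow_succ', pow_succ]
        group
    obtain ⟨q, hq⟩ := Equiv.Perm.exists_fixed_point_of_prime (p := 3) (n := 1) (σ := S) (by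
      rw [← Nat.card_eq_fintype_card]
      obtain ⟨m, hm⟩ := hQ2.exists_card_eq
      rw [hm]
      intro h
      exact absurd ((Nat.prime_dvd_prime_iff_eq (by norm_num) Nat.prime_two).1
        ((Fact.out : Nat.Prime 3).dvd_of_dvd_pow h)) (by norm_num))
      (Equiv.ext fun q => Subtype.ext (by rw [pow_one, hpow, hc3, hb3]; simp))
    have hq' : c * (q : X) * b⁻¹ = q := congrArg Subtype.val hq
    set t := (q : X) * w with ht
    have htc : t * y' * t⁻¹ = c := by
      calc t * y' * t⁻¹ = (q : X) * b * (q : X)⁻¹ := by rw [ht, hb]; group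
        _ = c * (q : X) * b⁻¹ * b * (q : X)⁻¹ := by rw [hq']
        _ = c := by group
    have hft : f t = f w := by rw [ht, map_mul, (hmem q).1 q.2, one_mul]
    have hwsq : f w * f w = 1 :=
      (by decide +kernel : ∀ σ ∈ eSet, σ * σ = 1) _ hσ
    let s : Q := ⟨t * t, (hmem _).2 (by rw [map_mul, hft, hwsq])⟩
    have hsy : (s : X) * y' * (s : X)⁻¹ = y' := by
      show t * t * y' * (t * t)⁻¹ = y'
      rw [show t * t * y' * (t * t)⁻¹ = t * (t * y' * t⁻¹) * t⁻¹ by group, htc]
      rcases hcy with rfl | rfl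
      · exact htc
      · rw [show t * (y' * y') * t⁻¹ = (t * y' * t⁻¹) * (t * y' * t⁻¹) by group, htc,
          show y' * y' * (y' * y') = y' ^ 3 * y' by simp [pow_succ, mul_assoc], hy'3, one_mul]
    have hs1 : act6 y (θ s).toAdd = (θ s).toAdd := by
      rw [← hy', ← heq]
      refine congrArg (fun z => (θ z).toAdd) (Subtype.ext ?_)
      rw [MulAut.conjNormal_apply, mul_inv_eq_iff_eq_mul]
      exact (mul_inv_eq_iff_eq_mul.1 hsy).symm
    have hs2 : act6 (f w) (θ s).toAdd = (θ s).toAdd := by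
      rw [← hft, ← heq]
      refine congrArg (fun z => (θ z).toAdd) (Subtype.ext ?_)
      rw [MulAut.conjNormal_apply]
      show t * (t * t) * t⁻¹ = t * t
      group
    have hsL := hfix _ hs1 hs2
    refine ⟨q⁻¹ * MulAut.conjNormal t q⁻¹ * s, ?_, ?_⟩
    · show (θ _).toAdd ∈ lSub
      rw [hadd, hadd, heq, hft]
      exact add_mem (comm_lSub _ hσ _) hsL
    · show (q : X)⁻¹ * (MulAut.conjNormal t q⁻¹ : Q) * (t * t) = w * w
      rw [MulAut.conjNormal_apply, Subgroup.coe_inv, ht]
      group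
  have hle : K ≤ W := by
    rintro _ ⟨p, -, rfl⟩
    show f p ∈ eSub
    rw [(hmem _).1 p.2]; exact one_mem _
  have h := CfsgLib.DEightWreath.card_le_of_sectional hr (X := W) (K := K) ⟨hle, hsq⟩
  have : 0 < Nat.card K := Nat.card_pos
  omega

end CfsgLib.RankFourQuot
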