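import Cfsg.Agent.Lib.RankFourQuot.OddCore
import Cfsg.Agent.Lib.RankFourQuot.SixExclude
import Cfsg.Agent.Lib.RankFourLinear.Apply
import Cfsg.Agent.Lib.SectRank.CenterConjugate
import Cfsg.Agent.Lib.CyclicMeet.Basic

/-!
The radical quotient of a constrained group of sectional rank four.
-/

set_option autoImplicit false
set_option linter.style.haveILetI false

namespace CfsgLib.RankFourQuot

open Equiv

variable {G : Type*} [Group G] [Finite G]

/-- The possible radical quotients. -/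
theorem quotient_list (ι : G →* A8) (hι : Function.Injective ι) (hns : ¬ Group.IsSolvable G)
    (h2 : Cfsg.pCore 2 G = ⊥) :
    (∃ (F : Type) (_ : Field F) (_ : Fintype F), Fintype.card F = 2 ∧
          Nonempty (G ≃* Matrix.ProjectiveSpecialLinearGroup (Fin 3) F)) ∨
      (∃ n : ℕ, 5 ≤ n ∧ n ≤ 8 ∧ Nonempty (G ≃* ↥(alternatingGroup (Fin n)))) ∨
      (∃ n : ℕ, 5 ≤ n ∧ n ≤ 7 ∧ Nonempty (G ≃* Perm (Fin n))) ∨
      (Nat.card ↥(Cfsg.pCore 3 G) = 3 ∧
        (Nonempty (G ⧸ Cfsg.pCore 3 G ≃* ↥(alternatingGroup (Fin 5))) ∨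
          Nonempty (G ⧸ Cfsg.pCore 3 G ≃* Perm (Fin 5)))) := by
  by_cases hodd : Cfsg.pPrimeCore 2 G = ⊥
  swap
  · exact Or.inr (Or.inr (Or.inr (three_core ι hι hns hodd)))
  haveI : Nontrivial G := by
    by_contra hnt
    rw [not_nontrivial_iff_subsingleton] at hnt
    exact hns inferInstance
  obtain ⟨e⟩ := CfsgLib.Classical.GLFourTwo.gl_equiv_alt (F := ZMod 2) (ZMod.card 2)
  rcases CfsgLib.AEightSub.listed_of_embedding (e.symm.toMonoidHom.comp ι) (e.symm.injective.comp hι)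
    (CfsgLib.AEightSub.radless_of_cores hodd h2) with h | h | h | ⟨hc, hs⟩
  · exact Or.inr (Or.inl h)
  · exact Or.inr (Or.inr (Or.inl ⟨5, le_rfl, by norm_num, h⟩))
  · exact Or.inr (Or.inr (Or.inl ⟨6, by norm_num, by norm_num, h⟩))
  · haveI : Fact (Nat.Prime 2) := ⟨Nat.prime_two⟩
    haveI := hs
    obtain ⟨hs', hc'⟩ := CfsgLib.RankFourLinear.psl_three_two (F := ZMod 2) (ZMod.card 2)
    haveI := hs'
    obtain ⟨e₁⟩ := CfsgLib.OneSixEight.nonempty_equiv_model (G := G) hc
    obtain ⟨e₂⟩ := CfsgLib.OneSixEight.nonempty_equiv_model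
      (G := Matrix.ProjectiveSpecialLinearGroup (Fin 3) (ZMod 2)) hc'
    exact Or.inl ⟨ZMod 2, inferInstance, inferInstance, ZMod.card 2, ⟨e₁.trans e₂.symm⟩⟩

variable {X : Type*} [Group X] [Finite X]

/-- No `S₆` in the radical quotient. -/
theorem no_six_section (Q : Subgroup X) [Q.Normal] (hQ2 : IsPGroup 2 Q)
    (hC : Subgroup.centralizer (Q : Set X) ≤ Q) (hr : Cfsg.SectionalPRankLE 2 4 X)
    (j : Perm (Fin 6) →* X ⧸ Q) (hj : Function.Injective j) : False := by
  set X1 := j.range.comap (QuotientGroup.mk' Q)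
  have hQX : Q ≤ X1 := fun q hq => by
    show QuotientGroup.mk' Q q ∈ j.range
    rw [show QuotientGroup.mk' Q q = 1 from (QuotientGroup.eq_one_iff q).2 hq]
    exact one_mem _
  let f : X1 →* Perm (Fin 6) :=
    (MonoidHom.ofInjective hj).symm.toMonoidHom.comp ((QuotientGroup.mk' Q).subgroupComap j.range)
  have hf : Function.Surjective f := (MonoidHom.ofInjective hj).symm.surjective.comp
    (MonoidHom.subgroupComap_surjective_of_surjective _ _ (QuotientGroup.mk'_surjective Q))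
  have hker : f.ker = Q.subgroupOf X1 := by
    ext x
    rw [MonoidHom.mem_ker, Subgroup.mem_subgroupOf]
    show (MonoidHom.ofInjective hj).symm _ = 1 ↔ _
    rw [map_eq_one_iff _ (MonoidHom.ofInjective hj).symm.injective, Subtype.ext_iff]
    exact QuotientGroup.eq_one_iff _
  exact no_six (Q.subgroupOf X1) (hQ2.of_equiv (Subgroup.subgroupOfEquivOfLe hQX).symm) (fun x hx => by
      refine hC (Subgroup.mem_centralizer_iff.2 fun q hq => ?_)
      exact congrArg Subtype.val (Subgroup.mem_centralizer_iff.1 hx ⟨q, hQX hq⟩ hq))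
    (CfsgLib.CenterPair.sectional_subgroup hr X1) f hf hker

end CfsgLib.RankFourQuot
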