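import Cfsg.Agent.Lib.RankFourQuot.AEight
import Cfsg.Agent.Lib.OddOrder.Solvable
import Cfsg.Agent.Lib.CIT.Radical
import Cfsg.Agent.Lib.Fitting.Basic

/-!
Subgroups of `A₈` with a non-trivial odd core.
-/

set_option autoImplicit false
set_option linter.style.haveILetI false

namespace CfsgLib.RankFourQuot

open Equiv MulAction

variable {G : Type*} [Group G] [Finite G]

/-- An abelian transitive normal subgroup of prime degree gives a solvable group. -/
theorem isSolvable_prime_transitive {α : Type*} [Finite α] (p : ℕ) (hp : p.Prime) (hα : Nat.card α = p)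
    (H : Subgroup (Perm α)) (A : Subgroup (Perm α)) (hA : ∀ h ∈ H, ∀ a ∈ A, h * a * h⁻¹ ∈ A) (hAH : A ≤ H)
    (hab : ∀ a ∈ A, ∀ b ∈ A, a * b = b * a) (htr : ∀ x y : α, ∃ a ∈ A, a x = y) :
    Group.IsSolvable H := by
  classical
  haveI := Fact.mk hp
  obtain ⟨x₀⟩ : Nonempty α := (Nat.card_pos_iff.1 (hα ▸ hp.pos)).1
  -- the point stabiliser in `A` is trivial
  have hreg : ∀ a ∈ A, a x₀ = x₀ → a = 1 := fun a ha hax => Equiv.ext fun y => by
    obtain ⟨b, hb, rfl⟩ := htr x₀ y
    have := congrArg (fun g : Perm α => g x₀) (hab a ha b hb)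
    simp only [Perm.mul_apply] at this
    rw [hax] at this
    rw [this, Perm.one_apply]
  have hAp : Nat.card A = p := by
    rw [← hα]
    refine Nat.card_eq_of_bijective (fun a : A => (a : Perm α) x₀) ⟨fun a b h => ?_, fun y => ?_⟩
    · refine Subtype.ext ?_
      have := hreg _ (mul_mem (inv_mem b.2) a.2) (by
        show (b : Perm α)⁻¹ ((a : Perm α) x₀) = x₀
        rw [show (a : Perm α) x₀ = (b : Perm α) x₀ from h]
        exact Equiv.symm_apply_apply _ _)
      exact (inv_mul_eq_one.1 this).symm
    · obtain ⟨a, ha, e⟩ := htr x₀ y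
      exact ⟨⟨a, ha⟩, e⟩
  haveI : IsCyclic A := isCyclic_of_prime_card hAp
  haveI : (A.subgroupOf H).Normal := ⟨fun a ha h => hA h h.2 a ha⟩
  let ψ : H →* MulAut ↥(A.subgroupOf H) := MulAut.conjNormal
  haveI : IsCyclic ↥(A.subgroupOf H) :=
    isCyclic_of_surjective (Subgroup.subgroupOfEquivOfLe hAH).symm (Subgroup.subgroupOfEquivOfLe hAH).symm.surjective
  haveI : Group.IsSolvable (MulAut ↥(A.subgroupOf H)) := by
    have e := (IsCyclic.mulAutMulEquiv ↥(A.subgroupOf H))
    exact Group.isSolvable_of_isSolvable_injective (f := e.toMonoidHom) e.injective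
  haveI : Group.IsSolvable ψ.ker := by
    have hk : ψ.ker ≤ A.subgroupOf H := fun g hg => by
      obtain ⟨a, ha, e⟩ := htr x₀ ((g : Perm α) x₀)
      have hc : ∀ b ∈ A, (g : Perm α) * b = b * g := fun b hb => by
        have := congrArg (fun f : MulAut ↥(A.subgroupOf H) => ((f ⟨⟨b, hAH hb⟩, hb⟩ : H) : Perm α))
          (MonoidHom.mem_ker.1 hg)
        exact mul_inv_eq_iff_eq_mul.1 this
      suffices h : (g : Perm α) = a by
        show (g : Perm α) ∈ A
        rw [h]; exact ha
      refine Equiv.ext fun y => ?_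
      obtain ⟨b, hb, rfl⟩ := htr x₀ y
      rw [← Perm.mul_apply, hc b hb, Perm.mul_apply, ← e, ← Perm.mul_apply, ← hab a ha b hb, Perm.mul_apply]
    letI : CommGroup ↥(A.subgroupOf H) := IsCyclic.commGroup
    exact Group.isSolvable_of_isSolvable_injective (f := Subgroup.inclusion hk) (Subgroup.inclusion_injective hk)
  exact Group.isSolvable_of_ker_le_range ψ.ker.subtype ψ (by simp)

/-- A group of index at most two in a normal series. -/
theorem alt_le_of_nonsolvable_five (H : Subgroup (Perm (Fin 5))) (hH : ¬ Group.IsSolvable H) :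
    alternatingGroup (Fin 5) ≤ H := by
  refine Perm.alternatingGroup_le_of_index_le_two ?_
  have h60 := CfsgLib.AEightSub.sixty_le hH
  have h := H.card_mul_index
  rw [Nat.card_perm, Nat.card_fin, show Nat.factorial 5 = 120 from rfl] at h
  nlinarith

/-- The odd core case. -/
theorem three_core (ι : G →* A8) (hι : Function.Injective ι) (hns : ¬ Group.IsSolvable G)
    (hodd : Cfsg.pPrimeCore 2 G ≠ ⊥) :
    Nat.card ↥(Cfsg.pCore 3 G) = 3 ∧
      (Nonempty (G ⧸ Cfsg.pCore 3 G ≃* ↥(alternatingGroup (Fin 5))) ∨
        Nonempty (G ⧸ Cfsg.pCore 3 G ≃* Perm (Fin 5))) := by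
  classical
  haveI := CfsgLib.Transfer.pPrimeCore_normal 2 G
  obtain ⟨M, hMn, hMle, hM1, hMmin⟩ := CfsgLib.CIT.exists_minimal_normal_le
    (inferInstance : (Cfsg.pPrimeCore 2 G).Normal) hodd
  haveI := hMn
  have hMcop : (Nat.card M).Coprime 2 :=
    (CfsgLib.Transfer.pPrimeCore_coprime (G := G) 2).coprime_dvd_left (Subgroup.card_dvd_of_le hMle)
  have hMs : Group.IsSolvable M := CfsgLib.OddOrder.odd_order_solvable (Nat.coprime_two_right.1 hMcop)
  have hab : ∀ a ∈ M, ∀ b ∈ M, a * b = b * a := by
    have hcomm : (commutator M).map M.subtype = ⊥ := by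
      by_contra h0
      have hle : (commutator M).map M.subtype ≤ M := Subgroup.map_subtype_le _
      have heq : (commutator M).map M.subtype = M := (hMmin _ inferInstance hle).resolve_left h0
      have htop : commutator M = ⊤ := by
        apply Subgroup.map_injective M.subtype_injective
        rw [heq, ← MonoidHom.range_eq_map, Subgroup.range_subtype]
      haveI : Nontrivial M := (Subgroup.nontrivial_iff_ne_bot M).2 hM1
      exact (Group.IsSolvable.commutator_lt_top_of_nontrivial (G := M)).ne htop
    rw [Subgroup.map_eq_bot_iff_of_injective _ M.subtype_injective, commutator_def,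
      Subgroup.commutator_eq_bot_iff_le_centralizer] at hcomm
    intro a ha b hb
    exact congrArg Subtype.val
      (Subgroup.mem_centralizer_iff.1 (hcomm (Subgroup.mem_top ⟨b, hb⟩)) ⟨a, ha⟩ (Subgroup.mem_top _))
  let φ : G →* Perm (Fin 8) := (alternatingGroup (Fin 8)).subtype.comp ι
  have hφ : Function.Injective φ := Subtype.coe_injective.comp hι
  have hev : ∀ g, Perm.sign (φ g) = 1 := fun g => Perm.mem_alternatingGroup.1 (ι g).2
  letI : MulAction G (Fin 8) := MulAction.compHom (Fin 8) φ
  -- orbits of `M`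
  have hperm : ∀ (g : G) (x y : Fin 8), y ∈ orbit M x → g • y ∈ orbit M (g • x) := by
    rintro g x y ⟨m, rfl⟩
    exact ⟨⟨g * m * g⁻¹, Subgroup.Normal.conj_mem inferInstance _ m.2 g⟩, by
      show (g * m * g⁻¹) • g • x = g • (m : G) • x
      rw [← mul_smul, ← mul_smul, inv_mul_cancel_right]⟩
  have hodd' : ∀ x : Fin 8, Odd (Nat.card (orbit M x)) := fun x => by
    refine Odd.of_dvd_nat (Nat.coprime_two_right.1 hMcop) ?_
    rw [Nat.card_coe_set_eq, ← index_stabilizer]
    exact (stabilizer M x).index_dvd_card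
  -- no orbit of length at least five
  have hsmall : ∀ x : Fin 8, Nat.card (orbit M x) = 1 ∨ Nat.card (orbit M x) = 3 := by
    intro x
    have hle : Nat.card (orbit M x) ≤ 8 := (Nat.card_le_card_of_injective _ Subtype.val_injective).trans (by simp)
    obtain ⟨k, hk⟩ := hodd' x
    by_contra hne
    refine hns ?_
    set T := orbit M x with hT
    have hT57 : Nat.card T = 5 ∨ Nat.card T = 7 := by omega
    have hinv : ∀ (g : G) y, y ∈ T → g • y ∈ T := by
      intro g y hy
      have h1 : g • y ∈ orbit M (g • x) := hperm g x y hy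
      by_contra hgy
      have hdis : Disjoint (orbit M (g • x)) T := by
        rw [Set.disjoint_left]
        intro z hz hzT
        refine hgy ?_
        rw [hT, ← MulAction.orbit_eq_iff.2 hzT, MulAction.orbit_eq_iff.2 hz]
        exact h1
      have hsz : Nat.card (orbit M (g • x)) = Nat.card T := by
        refine le_antisymm ?_ ?_
        · refine Nat.card_le_card_of_injective (fun z => (⟨g⁻¹ • z.1, by
            have := hperm g⁻¹ _ _ z.2
            rwa [inv_smul_smul] at this⟩ : T)) fun a b h => Subtype.ext (by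
              simpa using congrArg Subtype.val h)
        · refine Nat.card_le_card_of_injective (fun z => (⟨g • z.1, hperm g x _ z.2⟩ : orbit M (g • x)))
            fun a b h => Subtype.ext (by simpa using congrArg Subtype.val h)
      have := Set.ncard_union_eq hdis
      have h8 := Set.ncard_le_card (orbit M (g • x) ∪ T)
      rw [this, ← Nat.card_coe_set_eq, ← Nat.card_coe_set_eq, hsz, Nat.card_fin] at h8
      omega
    let π : G →* Perm T :=
      { toFun := fun g => (φ g).subtypePerm fun y => ⟨fun hy => by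
            have := hinv g⁻¹ _ hy
            change g⁻¹ • g • y ∈ T at this
            rwa [inv_smul_smul] at this, fun hy => hinv g y hy⟩
        map_one' := by ext y; simp
        map_mul' := fun a b => Equiv.ext fun y => Subtype.ext (by
          show φ (a * b) y.1 = φ a (φ b y.1)
          rw [map_mul]; rfl) }
    haveI : Group.IsSolvable π.range := by
      refine isSolvable_prime_transitive (Nat.card T) (by rcases hT57 with e | e <;> rw [e] <;> norm_num) rfl
        π.range (M.map π) ?_ (by rintro _ ⟨m, -, rfl⟩; exact ⟨m, rfl⟩) ?_ ?_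
      · rintro _ ⟨g, rfl⟩ _ ⟨m, hm, rfl⟩
        exact ⟨g * m * g⁻¹, Subgroup.Normal.conj_mem inferInstance m hm g, by simp⟩
      · rintro _ ⟨a, ha, rfl⟩ _ ⟨b, hb, rfl⟩
        rw [← map_mul, hab a ha b hb, map_mul]
      · rintro ⟨y, hy⟩ ⟨z, hz⟩
        obtain ⟨m, hm⟩ : z ∈ orbit M y := by rw [MulAction.orbit_eq_iff.2 hy]; exact hz
        exact ⟨π m, ⟨m, m.2, rfl⟩, Subtype.ext hm⟩
    haveI : Group.IsSolvable π.ker := by
      refine CfsgLib.AEightSub.isSolvable_of_invariant (φ.comp π.ker.subtype)
        (fun y => if y ∈ T then some y else none) (fun g y => ?_) (fun b => ?_)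
        (hφ.comp π.ker.subtype_injective)
      · by_cases hy : y ∈ T
        · have hfix : φ (g : G) y = y :=
            congrArg Subtype.val (Equiv.ext_iff.1 (MonoidHom.mem_ker.1 g.2) ⟨y, hy⟩)
          show ite (φ (g : G) y ∈ T) (some (φ (g : G) y)) none = _
          rw [hfix]
        · show ite (φ (g : G) y ∈ T) (some (φ (g : G) y)) none = _
          rw [if_neg hy, if_neg fun h => hy ?_]
          have := hinv (g : G)⁻¹ _ h
          change (g : G)⁻¹ • (g : G) • y ∈ T at this
          rwa [inv_smul_smul] at this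
      · rcases b with _ | b
        · refine le_trans (Nat.card_le_card_of_injective (fun y => (⟨y.1, fun hy => by
            have := y.2
            rw [if_pos hy] at this
            exact Option.some_ne_none _ this⟩ : (Tᶜ : Set (Fin 8)))) ?_) ?_
          · exact fun u w h => Subtype.ext (congrArg (fun z : (Tᶜ : Set (Fin 8)) => (z : Fin 8)) h)
          · have := Set.ncard_add_ncard_compl T
            rw [Nat.card_fin, ← Nat.card_coe_set_eq, ← Nat.card_coe_set_eq] at this
            show Nat.card ↥(Tᶜ : Set (Fin 8)) ≤ 4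
            omega
        · haveI : Subsingleton {y : Fin 8 // (if y ∈ T then some y else none) = some b} :=
            ⟨fun u w => Subtype.ext (by
              have hu := u.2; have hw := w.2
              split_ifs at hu hw
              exact (Option.some.inj hu).trans (Option.some.inj hw).symm)⟩
          exact (Finite.card_le_one_iff_subsingleton.2 this).trans (by norm_num)
    exact Group.isSolvable_of_ker_le_range π.ker.subtype π.rangeRestrict (by simp)
  -- an orbit of length three
  obtain ⟨x₀, hx₀⟩ : ∃ x, Nat.card (orbit M x) = 3 := by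
    apply Classical.byContradiction
    intro hcon
    push Not at hcon
    refine hM1 ((Subgroup.eq_bot_iff_forall _).2 fun m hm => hφ (Equiv.ext fun x => ?_))
    obtain ⟨hsub, -⟩ := Nat.card_eq_one_iff_unique.1 ((hsmall x).resolve_right (hcon x))
    rw [map_one]
    exact congrArg Subtype.val (hsub.elim (⟨(⟨m, hm⟩ : M) • x, ⟨_, rfl⟩⟩ : orbit M x) ⟨x, mem_orbit_self x⟩)
  set T := orbit M x₀ with hT
  -- no other orbit of length three
  have huniq : ∀ y, y ∉ T → Nat.card (orbit M y) = 1 := by
    intro y hy
    refine (hsmall y).resolve_right fun hy3 => hns ?_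
    haveI : Fintype (orbitRel.Quotient M (Fin 8)) := Fintype.ofFinite _
    refine CfsgLib.AEightSub.isSolvable_of_system φ (fun z => Quotient.mk (orbitRel M (Fin 8)) z) hφ
      Quotient.mk_surjective ?_ (fun b => ?_) ?_
    · intro g u w h
      exact Quotient.sound (hperm g w u (Quotient.exact h : u ∈ orbit M w))
    · obtain ⟨z, rfl⟩ := Quotient.mk_surjective b
      refine le_trans (Nat.card_le_card_of_injective (fun w => (⟨w.1, Quotient.exact w.2⟩ : orbit M z))
        fun u w h => Subtype.ext (congrArg (fun v : orbit M z => (v : Fin 8)) h)) ?_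
      rcases hsmall z with e | e <;> exact e.le.trans (by norm_num)
    · rw [Nat.card_eq_fintype_card]
      set f : Fin 8 → orbitRel.Quotient M (Fin 8) := fun z => Quotient.mk (orbitRel M (Fin 8)) z with hf
      have hsum := Finset.card_eq_sum_card_fiberwise (f := f) (s := Finset.univ) (t := Finset.univ)
        fun _ _ => Finset.mem_univ _
      have hfib : ∀ z, (Finset.univ.filter fun w => f w = f z).card = Nat.card (orbit M z) := fun z => by
        rw [← Nat.card_eq_finsetCard]
        exact Nat.card_congr (Equiv.subtypeEquivRight fun w => by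
          rw [Finset.mem_filter]
          exact ⟨fun h => Quotient.exact h.2, fun h => ⟨Finset.mem_univ _, Quotient.sound h⟩⟩)
      have hpos : ∀ b : orbitRel.Quotient M (Fin 8), 1 ≤ (Finset.univ.filter fun w => f w = b).card := fun b => by
        obtain ⟨z, rfl⟩ := Quotient.mk_surjective b
        exact Finset.card_pos.2 ⟨z, by simp [hf]⟩
      have hne : f x₀ ≠ f y := fun h => hy (by
        have := Quotient.exact h.symm
        exact this)
      rw [← Finset.add_sum_erase _ _ (Finset.mem_univ (f x₀)),
        ← Finset.add_sum_erase _ _ (Finset.mem_erase.2 ⟨hne.symm, Finset.mem_univ (f y)⟩),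
        hfib, hfib, hy3, hx₀] at hsum
      have hge := Finset.card_nsmul_le_sum ((Finset.univ.erase (f x₀)).erase (f y))
        (fun b => (Finset.univ.filter fun w => f w = b).card) 1 fun b _ => hpos b
      rw [Finset.card_erase_of_mem (Finset.mem_erase.2 ⟨hne.symm, Finset.mem_univ _⟩),
        Finset.card_erase_of_mem (Finset.mem_univ _)] at hge
      simp only [Finset.card_univ, Fintype.card_fin, smul_eq_mul, mul_one] at hge hsum
      have hQ : Fintype.card (orbitRel.Quotient M (Fin 8)) = Fintype.card (Quotient (orbitRel M (Fin 8))) := rfl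
      omega
  have hfixout : ∀ m ∈ M, ∀ y, y ∉ T → φ m y = y := by
    intro m hm y hy
    obtain ⟨hsub, -⟩ := Nat.card_eq_one_iff_unique.1 (huniq y hy)
    exact congrArg Subtype.val (hsub.elim (⟨(⟨m, hm⟩ : M) • y, ⟨_, rfl⟩⟩ : orbit M y) ⟨y, mem_orbit_self y⟩)
  have hinv : ∀ (g : G) y, (φ g y ∈ T ↔ y ∈ T) := by
    have h1 : ∀ (g : G) y, y ∈ T → φ g y ∈ T := by
      intro g y hy
      by_contra hgy
      have h3 : Nat.card (orbit M y) = 3 := by rw [MulAction.orbit_eq_iff.2 hy]; exact hx₀
      have h1' := huniq _ hgy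
      change Nat.card (orbit M (g • y)) = 1 at h1'
      have := Nat.card_le_card_of_injective (fun z : orbit M y => (⟨g • z.1, hperm g y _ z.2⟩ : orbit M (g • y)))
        fun a b h => Subtype.ext (by simpa using congrArg Subtype.val h)
      have h4 : Nat.card (orbit M y) ≤ 1 := this.trans h1'.le
      omega
    refine fun g y => ⟨fun h => ?_, h1 g y⟩
    have := h1 g⁻¹ _ h
    change g⁻¹ • g • y ∈ T at this
    rwa [inv_smul_smul] at this
  have hc5 : Fintype.card {y : Fin 8 // y ∉ T} = 5 := by
    rw [Fintype.card_subtype_compl, Fintype.card_fin, ← Nat.card_eq_fintype_card]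
    change 8 - Nat.card T = 5
    rw [hx₀]
  let e5 : {y : Fin 8 // y ∉ T} ≃ Fin 5 := Fintype.equivFinOfCardEq hc5
  let π : G →* Perm (Fin 5) := e5.permCongrHom.toMonoidHom.comp
    { toFun := fun g => (φ g).subtypePerm fun y => not_congr (hinv g y)
      map_one' := by ext y; simp
      map_mul' := fun a b => Equiv.ext fun y => Subtype.ext (by
        show φ (a * b) y.1 = φ a (φ b y.1)
        rw [map_mul]; rfl) }
  have hπker : ∀ g, g ∈ π.ker → ∀ y, y ∉ T → φ g y = y := fun g hg y hy => by
    have h1 := MonoidHom.mem_ker.1 hg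
    rw [MonoidHom.comp_apply, MulEquiv.coe_toMonoidHom, map_eq_one_iff _ e5.permCongrHom.injective] at h1
    exact congrArg Subtype.val (Equiv.ext_iff.1 h1 ⟨y, hy⟩)
  have hker3 : Nat.card π.ker ≤ 3 := by
    have hoff := card_kernel_le φ hφ hev T.toFinsetᶜ (by
      rw [Finset.card_compl, ← Set.ncard_eq_toFinset_card', ← Nat.card_coe_set_eq, hx₀]; rfl) π.ker
      fun g hg y hy => hπker g hg y (by rwa [Finset.mem_compl, Set.mem_toFinset] at hy)
    exact hoff
  have hMker : M ≤ π.ker := fun m hm => by
    rw [MonoidHom.mem_ker, MonoidHom.comp_apply, MulEquiv.coe_toMonoidHom,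
      map_eq_one_iff _ e5.permCongrHom.injective]
    exact Equiv.ext fun y => Subtype.ext (hfixout m hm y y.2)
  have hM3 : Nat.card M = 3 ∧ π.ker = M := by
    have h3 : 3 ∣ Nat.card M := by
      rw [← hx₀, Nat.card_coe_set_eq, ← index_stabilizer]
      exact (stabilizer M x₀).index_dvd_card
    have h1 := Subgroup.card_le_of_le hMker
    have hpos : 0 < Nat.card M := Nat.card_pos
    have hM3 : Nat.card M = 3 := by
      have := Nat.le_of_dvd hpos h3
      omega
    exact ⟨hM3, (Subgroup.eq_of_le_of_card_ge hMker (by omega)).symm⟩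
  obtain ⟨hM3, hkerM⟩ := hM3
  have hH : ¬ Group.IsSolvable π.range := fun h => hns (by
    haveI := h
    haveI : Group.IsSolvable π.ker := CfsgLib.AEightSub.isSolvable_of_card_lt (by omega)
    exact Group.isSolvable_of_ker_le_range π.ker.subtype π.rangeRestrict (by simp))
  have hA := alt_le_of_nonsolvable_five _ hH
  -- the three-core
  haveI : Fact (Nat.Prime 3) := ⟨by norm_num⟩
  haveI := CfsgLib.Fitting.pCore_normal (G := G) 3
  have hcore : Cfsg.pCore 3 G = M := by
    refine le_antisymm ?_ (CfsgLib.Fitting.le_pCore hMn (IsPGroup.of_card (n := 1) (by rw [hM3]; norm_num)))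
    rw [← hkerM]
    intro g hg
    set P := (Cfsg.pCore 3 G).map π
    have hP : IsPGroup 3 P := (CfsgLib.Fitting.pCore_isPGroup 3).map π
    have hPA : P ≤ alternatingGroup (Fin 5) := fun σ hσ => by
      rw [Perm.mem_alternatingGroup]
      obtain ⟨k, hk⟩ := hP ⟨σ, hσ⟩
      have hk' : σ ^ 3 ^ k = 1 := congrArg Subtype.val hk
      have h1 : Perm.sign σ ^ 3 ^ k = 1 := by rw [← map_pow, hk', map_one]
      rcases Int.units_eq_one_or (Perm.sign σ) with h | h
      · exact h
      · rw [h, Odd.neg_one_pow (Odd.pow (by decide))] at h1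
        exact absurd h1 (by decide)
    haveI : IsSimpleGroup (alternatingGroup (Fin 5)) := alternatingGroup.isSimpleGroup (by simp)
    have hN : (P.subgroupOf (alternatingGroup (Fin 5))).Normal := ⟨fun σ hσ τ => by
      obtain ⟨t, ht⟩ := hA τ.2
      obtain ⟨s, hs, e⟩ := hσ
      exact ⟨t * s * t⁻¹, Subgroup.Normal.conj_mem inferInstance s hs t, by
        rw [map_mul, map_mul, map_inv, e, ht]; rfl⟩⟩
    rcases hN.eq_bot_or_eq_top with h | h
    · rw [Subgroup.subgroupOf_eq_bot, disjoint_iff, inf_eq_left.2 hPA] at h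
      exact MonoidHom.mem_ker.2 (Subgroup.mem_bot.1 (h.le ⟨g, hg, rfl⟩))
    · exfalso
      rw [Subgroup.subgroupOf_eq_top] at h
      obtain ⟨n, hn⟩ := (hP.to_le h).exists_card_eq
      have h60 : Nat.card (alternatingGroup (Fin 5)) = 60 := by
        rw [nat_card_alternatingGroup]; simp [Nat.factorial]
      rw [h60] at hn
      have h2 : (2 : ℕ) ∣ 3 ^ n := hn ▸ (by norm_num)
      exact absurd ((Nat.prime_dvd_prime_iff_eq Nat.prime_two (by norm_num)).1
        (Nat.prime_two.dvd_of_dvd_pow h2)) (by norm_num)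
  refine ⟨by rw [hcore, hM3], ?_⟩
  let eq1 : G ⧸ Cfsg.pCore 3 G ≃* π.range :=
    (QuotientGroup.quotientMulEquivOfEq (hcore.trans hkerM.symm)).trans (QuotientGroup.quotientKerEquivRange π)
  rcases CfsgLib.AEightSub.equiv_alt_or_perm π.range.subtype π.range.subtype_injective
    (by rw [Subgroup.range_subtype]; exact hA) with h | h
  · exact Or.inl (h.map eq1.trans)
  · exact Or.inr (h.map eq1.trans)

end CfsgLib.RankFourQuot
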