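import Mathlib

/-!
The four-dimensional module of `S₆`: vectors of even weight modulo the all-ones vector.
-/

set_option autoImplicit false

namespace CfsgLib.RankFourQuot

open Equiv

/-- The vectors of the module. -/
abbrev V4 := Fin 4 → ZMod 2

/-- The representative with last coordinate zero. -/
def lift6 (v : V4) : Fin 6 → ZMod 2 := ![v 0, v 1, v 2, v 3, v 0 + v 1 + v 2 + v 3, 0]

/-- The coordinates modulo the all-ones vector. -/
def proj4 (w : Fin 6 → ZMod 2) : V4 := ![w 0 + w 5, w 1 + w 5, w 2 + w 5, w 3 + w 5]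

/-- The action of a permutation. -/
def act6 (σ : Perm (Fin 6)) (v : V4) : V4 := proj4 fun i => lift6 v (σ.symm i)

theorem lift6_even (v : V4) : ∑ i, lift6 v i = 0 := by revert v; decide

theorem lift6_proj4 (w : Fin 6 → ZMod 2) (hw : ∑ i, w i = 0) (i : Fin 6) :
    lift6 (proj4 w) i = w i + w 5 := by
  revert hw i w
  decide

theorem act6_add (σ : Perm (Fin 6)) (v w : V4) : act6 σ (v + w) = act6 σ v + act6 σ w := by
  have hl : ∀ j, lift6 (v + w) j = lift6 v j + lift6 w j := fun j => by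
    fin_cases j <;> simp [lift6] <;> abel
  funext i
  fin_cases i <;> simp [act6, proj4, hl] <;> abel

theorem act6_mul (σ τ : Perm (Fin 6)) (v : V4) : act6 (σ * τ) v = act6 σ (act6 τ v) := by
  have hw : ∑ i, lift6 v (τ.symm i) = 0 := by
    rw [Equiv.sum_comp τ.symm (lift6 v)]; exact lift6_even v
  funext i
  show proj4 (fun j => lift6 v ((σ * τ).symm j)) i =
    proj4 (fun j => lift6 (proj4 fun k => lift6 v (τ.symm k)) (σ.symm j)) i
  simp only [lift6_proj4 _ hw]
  have key : ∀ a b c : ZMod 2, a + b = a + c + (b + c) := by decide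
  fin_cases i <;> simp [proj4, Perm.mul_def] <;> exact key _ _ _

theorem act6_one (v : V4) : act6 1 v = v := by revert v; decide

/-- The action as matrices. -/
def mat6 (σ : Perm (Fin 6)) : Matrix (Fin 4) (Fin 4) (ZMod 2) :=
  Matrix.of fun i j => act6 σ (Pi.single j 1) i

theorem mat6_mulVec (σ : Perm (Fin 6)) (v : V4) : (mat6 σ).mulVec v = act6 σ v := by
  let f : V4 →+ V4 := AddMonoidHom.mk' (act6 σ) (act6_add σ)
  let l := f.toZModLinearMap 2
  have h : mat6 σ = LinearMap.toMatrix' l := by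
    ext i j; simp [mat6, LinearMap.toMatrix'_apply, l, f]
  rw [h, LinearMap.toMatrix'_mulVec]
  rfl

/-- The representation. -/
def rho6 : Perm (Fin 6) →* GL (Fin 4) (ZMod 2) :=
  MonoidHom.toHomUnits
    { toFun := mat6
      map_one' := Matrix.ext_iff_mulVec.2 fun v => by rw [mat6_mulVec, act6_one, Matrix.one_mulVec]
      map_mul' := fun σ τ => Matrix.ext_iff_mulVec.2 fun v => by
        rw [← Matrix.mulVec_mulVec, mat6_mulVec, mat6_mulVec, mat6_mulVec, act6_mul] }

theorem rho6_val (σ : Perm (Fin 6)) (v : V4) :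
    (rho6 σ : Matrix (Fin 4) (Fin 4) (ZMod 2)).mulVec v = act6 σ v := mat6_mulVec σ v

theorem rho6_injective : Function.Injective rho6 := by
  have h : ∀ σ : Perm (Fin 6), (∀ j : Fin 4, act6 σ (Pi.single j 1) = Pi.single j 1) → σ = 1 := by
    decide +kernel
  refine (injective_iff_map_eq_one rho6).2 fun σ hσ => h σ fun j => ?_
  rw [← rho6_val, hσ, Units.val_one, Matrix.one_mulVec]

theorem no_fixed (v : V4) (h : ∀ σ, act6 σ v = v) : v = 0 := by
  have hd : ∀ v : V4, act6 (swap 0 1) v = v → act6 (swap 1 2) v = v → act6 (swap 2 3) v = v →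
      act6 (swap 3 4) v = v → act6 (swap 4 5) v = v → v = 0 := by decide +kernel
  exact hd v (h _) (h _) (h _) (h _) (h _)

/-- The group generated by three disjoint transpositions. -/
def eSet : List (Perm (Fin 6)) :=
  [1, swap 0 1, swap 2 3, swap 4 5, swap 0 1 * swap 2 3, swap 0 1 * swap 4 5, swap 2 3 * swap 4 5,
    swap 0 1 * swap 2 3 * swap 4 5]

/-- The group `eSet`. -/
def eSub : Subgroup (Perm (Fin 6)) where
  carrier := {σ | σ ∈ eSet}
  one_mem' := by decide
  mul_mem' := fun {a b} ha hb => (by decide +kernel : ∀ a ∈ eSet, ∀ b ∈ eSet, a * b ∈ eSet) a ha b hb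
  inv_mem' := fun {a} ha => (by decide +kernel : ∀ a ∈ eSet, a⁻¹ ∈ eSet) a ha

theorem card_eSub : Nat.card eSub = 8 := by
  have e : eSub ≃ {σ // σ ∈ eSet.toFinset} := Equiv.subtypeEquivRight fun σ => (List.mem_toFinset (l := eSet)).symm
  rw [Nat.card_congr e, Nat.card_eq_finsetCard]
  decide +kernel

/-- The subgroup containing all commutators with `eSub`. -/
def lSub : AddSubgroup V4 where
  carrier := {v | v 0 = v 1 ∧ v 2 = v 3}
  zero_mem' := ⟨rfl, rfl⟩
  add_mem' := fun {a b} ha hb => ⟨by simp [ha.1, hb.1], by simp [ha.2, hb.2]⟩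
  neg_mem' := fun {a} ha => ⟨by simp [ha.1], by simp [ha.2]⟩

theorem mem_lSub {v : V4} : v ∈ lSub ↔ v 0 = v 1 ∧ v 2 = v 3 := Iff.rfl

theorem comm_lSub : ∀ σ ∈ eSet, ∀ v : V4, v + act6 σ v ∈ lSub := by
  simp only [mem_lSub]; decide +kernel

/-- An element of order three for each involution. -/
def ys : List (Perm (Fin 6)) :=
  [swap 2 3 * swap 3 4, swap 0 4 * swap 4 5, swap 0 1 * swap 1 2,
    swap 0 1 * swap 1 4 * (swap 2 3 * swap 3 5), swap 0 1 * swap 1 2 * (swap 4 5 * swap 5 3),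
    swap 4 5 * swap 5 0 * (swap 2 3 * swap 3 1), swap 0 2 * swap 2 4 * (swap 1 3 * swap 3 5)]

theorem exists_three : ∀ σ ∈ eSet, σ = 1 ∨ ∃ y ∈ ys, y ^ 3 = 1 ∧ (σ * y * σ⁻¹ = y ∨ σ * y * σ⁻¹ = y * y) ∧
    ∀ v : V4, act6 y v = v → act6 σ v = v → v ∈ lSub := by
  simp only [mem_lSub]; decide +kernel

end CfsgLib.RankFourQuot
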